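import Cfsg.Agent.Lib.SLD.Defs2
import Cfsg.Agent.Lib.SLD.Witt

/-! The doubled Eichler elements -/

set_option autoImplicit false
set_option linter.unusedSectionVars false

namespace CfsgLib.SLD

open Subgroup QuadraticMap CfsgLib.OrthE Module
open scoped commutatorElement Pointwise

universe u

variable {F V : Type} [Field F] [Finite F] [AddCommGroup V] [Module F V] [Finite V] {Q : QuadraticForm F V}
  {k : ℕ} {G : Type u} [Group G] [Finite G] {φ : Om Q →* G} {t : G} {y : V → V → G} {c : F}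

namespace D1

variable (ξ : HX.QA F c) (u : V) (v w x : Dv c V)

theorem ext {v w : Dv c V} (h1 : v.1 = w.1) (h2 : v.2 = w.2) : v = w := Prod.ext h1 h2

/-- a vector of the doubled space -/
def vv (c : F) (a b : V) : Dv c V := (a, b)

@[simp] theorem vv1 (a b : V) : (vv c a b).1 = a := rfl
@[simp] theorem vv2 (a b : V) : (vv c a b).2 = b := rfl
@[simp] theorem add1 : (v + w).1 = v.1 + w.1 := rfl
@[simp] theorem add2 : (v + w).2 = v.2 + w.2 := rfl
@[simp] theorem sm1 : (ξ • v).1 = ξ.re • v.1 + (c * ξ.im) • v.2 := rfl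
@[simp] theorem sm2 : (ξ • v).2 = ξ.re • v.2 + ξ.im • v.1 + ξ.im • v.2 := rfl
@[simp] theorem ι1 : (dι c u).1 = u := rfl
@[simp] theorem ι2 : (dι c u).2 = 0 := rfl
@[simp] theorem zero1 : (0 : Dv c V).1 = 0 := rfl
@[simp] theorem zero2 : (0 : Dv c V).2 = 0 := rfl

theorem smι1 : (ξ • dι c u).1 = ξ.re • u := by simp
theorem smι2 : (ξ • dι c u).2 = ξ.im • u := by simp

theorem dB_add : dB Q c (v + w) x = dB Q c v x + dB Q c w x := by
  ext <;> simp [dB, polar_add_left] <;> ring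

theorem dB_add' : dB Q c x (v + w) = dB Q c x v + dB Q c x w := by
  ext <;> simp [dB, polar_add_right] <;> ring

theorem dB_smul : dB Q c (ξ • v) x = ξ * dB Q c v x := by
  ext <;> simp [dB, polar_add_left, polar_smul_left] <;> ring

theorem dB_comm : dB Q c v w = dB Q c w v := by
  ext <;> simp only [dB, polar_comm Q w.1, polar_comm Q w.2]
  ring

theorem dQ_add : dQ Q c (v + w) = dQ Q c v + dQ Q c w + dB Q c v w := by
  have qa : ∀ a b, Q (a + b) = Q a + Q b + polar Q a b := fun a b => by simp [polar]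
  ext <;> simp [dB, dQ, polar_add_left, polar_add_right, qa, polar_comm Q w.1] <;> ring

/-- orthogonality to a rational vector -/
def Or (Q : QuadraticForm F V) (u : V) (v : Dv c V) : Prop := polar Q u v.1 = 0 ∧ polar Q u v.2 = 0

variable {ξ u v w x}

theorem Or.dB (h : Or Q u v) : dB Q c v (dι c u) = 0 := by
  ext <;> simp [SLD.dB, polar_comm Q v.1, polar_comm Q v.2, h.1, h.2]

theorem Or.add (h : Or Q u v) (h' : Or Q u w) : Or Q u (v + w) := by
  constructor <;> simp [polar_add_right, h.1, h.2, h'.1, h'.2]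

theorem Or.smul (h : Or Q u v) (ξ : HX.QA F c) : Or Q u (ξ • v) := by
  constructor <;> simp [polar_add_right, polar_smul_right, h.1, h.2]

theorem or_ι {p : V} (h : polar Q u p = 0) : Or Q u (dι c p) := ⟨h, polar_zero_right _ _⟩

theorem Or.dE {u' : V} (h0 : polar Q u' u = 0) (hv : Or Q u' v) (hx : Or Q u' x) : Or Q u' (dE Q c u v x) :=
  ((hx.add ((or_ι h0).smul _)).add (hv.smul _)).add ((or_ι h0).smul _)

theorem dE_add : dE Q c u v (w + x) = dE Q c u v w + dE Q c u v x := by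
  simp only [dE, dB_add]; module

theorem dE_dE (hu : polar Q u u = 0) (hv : Or Q u v) (hw : Or Q u w) :
    dE Q c u (v + w) x = dE Q c u v (dE Q c u w x) := by
  simp only [dE, dB_add, dB_add', dB_smul, dQ_add, (or_ι hu).dB, hw.dB, dB_comm (dι c u) v, dB_comm w v,
    hv.dB]
  module

theorem dE_or (hx : Or Q u x) : dE Q c u v x = x + dB Q c x v • dι c u := by
  simp only [dE, hx.dB]; module

end D1

open D1

namespace HV

variable (h : HV Q k φ t y c)
include h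

variable {u u' : V} {v w x : Dv c V}

theorem dre (hu : Q u = 0) (p : V) : dX φ y c u (dι c p) = xx φ u p := by
  rw [dX, ι1, ι2, h.y_zero hu, mul_one]

theorem dadd (hu : Q u = 0) (h1 : polar Q u v.1 = 0) (h2 : polar Q u v.2 = 0) (h3 : polar Q u w.1 = 0)
    (h4 : polar Q u w.2 = 0) : dX φ y c u (v + w) = dX φ y c u v * dX φ y c u w := by
  rw [dX, dX, dX, add1, add2, ← xx_mul hu h1 h3, h.add _ _ _ hu h2 h4, mul_assoc, mul_assoc,
    ← mul_assoc (y u v.2), ← (h.xy_comm hu h2 h3).eq, mul_assoc]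

theorem dzero (hu : Q u = 0) : dX φ y c u 0 = 1 := by
  rw [dX, zero1, zero2, xx_zero, h.y_zero hu, mul_one]

theorem dV (v : Dv c V) : v + v = 0 := D1.ext (h.addV _) (h.addV _)

theorem dsq (hu : Q u = 0) (h1 : polar Q u v.1 = 0) (h2 : polar Q u v.2 = 0) : dX φ y c u v * dX φ y c u v = 1 := by
  rw [← h.dadd hu h1 h2 h1 h2, h.dV, h.dzero hu]

theorem dself (hu : Q u = 0) (ξ : HX.QA F c) : dX φ y c u (ξ • dι c u) = 1 := by
  rw [dX, smι1, smι2, xx_self, h.self _ _ hu, mul_one]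

theorem y_swap (hu : Q u = 0) (hu' : Q u' = 0) (h0 : polar Q u u' = 0) (a : F) :
    y u (a • u') = y u' (a • u) := by
  rw [h.swap _ _ hu (by rw [QuadraticMap.map_smul, hu', smul_zero])
    (by rw [polar_smul_right, h0, smul_zero]), h.smul _ _ _ hu' (by rwa [polar_comm])]

theorem dswap (hu : Q u = 0) (hu' : Q u' = 0) (h0 : polar Q u u' = 0) (ξ : HX.QA F c) :
    dX φ y c u (ξ • dι c u') = dX φ y c u' (ξ • dι c u) := by
  rw [dX, dX, smι1, smι2, smι1, smι2, h.xx_swap hu hu' h0, h.y_swap hu hu' h0]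

theorem y_ln (hu : Q u = 0) (hu' : Q u' = 0) (h0 : polar Q u u' = 0) (a b a' b' : F) :
    y (a • u + b • u') (a' • u + b' • u') = y u ((a * b' + b * a') • u') := by
  have h0' : polar Q u' u = 0 := by rwa [polar_comm]
  have hp : Q (a • u + b • u') = 0 := ts_span (S := {u, u'}) (by rintro _ (rfl | rfl) <;> assumption)
    (by rintro _ (rfl | rfl) _ (rfl | rfl) <;> first | exact h.pol_self _ | assumption) _
    (mem_ln.2 ⟨a, b, rfl⟩)
  have h1 : polar Q (a • u + b • u') u = 0 := by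
    simp [polar_add_left, polar_smul_left, h.pol_self, h0']
  have h2 : polar Q (a • u + b • u') u' = 0 := by
    simp [polar_add_left, polar_smul_left, h.pol_self, h0]
  have s1 : ∀ s : F, polar Q u (s • u') = 0 := fun s => by rw [polar_smul_right, h0, smul_zero]
  have s2 : ∀ s : F, polar Q u' (s • u) = 0 := fun s => by rw [polar_smul_right, h0', smul_zero]
  rw [h.add _ _ _ hp (by rw [polar_smul_right, h1, smul_zero]) (by rw [polar_smul_right, h2, smul_zero]),
    h.y_swap hp hu h1, h.y_swap hp hu' h2, smul_add, smul_add, smul_smul, smul_smul, smul_smul,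
    smul_smul, add_comm (_ • u), h.y_add_self hu (s1 _), h.y_add_self hu' (s2 _),
    h.y_swap hu' hu h0', ← h.add _ _ _ hu (s1 _) (s1 _), ← add_smul]
  congr 2; ring

theorem dln (hu : Q u = 0) (hu' : Q u' = 0) (h0 : polar Q u u' = 0) (a b a' b' : F) (ξ : HX.QA F c) :
    dX φ y c (a • u + b • u') (ξ • dι c (a' • u + b' • u')) = dX φ y c u (ξ • dι c ((a * b' + b * a') • u')) := by
  rw [dX, dX, smι1, smι2, smι1, smι2, smul_add, smul_add, smul_smul, smul_smul, smul_smul, smul_smul,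
    smul_smul, smul_smul, h.y_ln hu hu' h0, xx, h.ρ_ln hu hu' h0, xx]
  congr 4 <;> ring

theorem deqv (hu : Q u = 0) (h1 : polar Q u v.1 = 0) (h2 : polar Q u v.2 = 0) {γ : SI Q} (hγ : γ ∈ Om Q) :
    ph φ γ * dX φ y c u v * (ph φ γ)⁻¹ = dX φ y c (γ • u) (γ • v.1, γ • v.2) := by
  have _ := h1
  show _ = xx φ _ (γ • v.1) * y _ (γ • v.2)
  rw [dX, ← conj_xx hγ, ← h.eqv γ hγ _ _ hu h2]; group

theorem dt (hu : Q u = 0) (h1 : polar Q u v.1 = 0) (h2 : polar Q u v.2 = 0) :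
    t * dX φ y c u v * t⁻¹ = dX φ y c u (v.1 + v.2, v.2) := by
  show _ = xx φ u (v.1 + v.2) * y u v.2
  rw [dX, ← xx_mul hu h1 h2, mul_assoc (xx φ u v.1), ← h.t_y hu h2, ← mul_assoc t,
    ← (h.com (xx_mem u v.1)).eq]
  group

theorem dmem (hu : Q u = 0) (h2 : polar Q u v.2 = 0) : dX φ y c u v ∈ G0 φ y :=
  have _ := h
  mul_mem (L_le_G0 (xx_mem _ _)) (y_mem hu h2)

theorem dinj (hu : Q u = 0) (u0 : u ≠ 0) (h1 : polar Q u v.1 = 0) (h2 : polar Q u v.2 = 0)
    (e : dX φ y c u v = 1) : ∃ ξ : HX.QA F c, v = ξ • dι c u := by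
  have e2 : _ = xx φ u (v.1 + v.2) * y u v.2 := h.dt hu h1 h2
  rw [e, mul_one, mul_inv_cancel, add_comm, ← xx_mul hu h2 h1, mul_assoc, ← dX, e, mul_one] at e2
  obtain ⟨b, hb⟩ := h.ρ_eq_one hu u0 h2 (ph_eq_one h.inj (ρ_mem Q _ _) e2.symm)
  rw [dX, hb, h.self _ _ hu, mul_one] at e
  obtain ⟨a, ha⟩ := h.ρ_eq_one hu u0 h1 (ph_eq_one h.inj (ρ_mem Q _ _) e)
  exact ⟨⟨a, b⟩, D1.ext (by rw [smι1, ha]) (by rw [smι2, hb])⟩

theorem dcomm (hu : Q u = 0) (h1 : Or Q u v) (h2 : Or Q u w) : Commute (dX φ y c u v) (dX φ y c u w) := by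
  rw [Commute, SemiconjBy, ← h.dadd hu h1.1 h1.2 h2.1 h2.2, ← h.dadd hu h2.1 h2.2 h1.1 h1.2, add_comm]

theorem dimg (p : V) : dX φ y c u (vv c 0 p) = y u p := by
  have _ := h
  rw [dX, vv1, vv2, xx_zero, one_mul]

theorem dconj_re (hu : Q u = 0) (hu' : Q u' = 0) (h0 : polar Q u u' = 0) {p : V} (h1 : polar Q u p = 0)
    (h3 : polar Q u' p = 0) (hx : Or Q u' x) :
    dX φ y c u (dι c p) * dX φ y c u' x * (dX φ y c u (dι c p))⁻¹ = dX φ y c u' (dE Q c u (dι c p) x) := by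
  rw [h.dre hu, xx, h.deqv hu' hx.1 hx.2 (ρ_mem Q _ _), ρ_fix (by rwa [polar_comm]) h3]
  congr 1
  refine D1.ext ?_ ?_ <;> simp [h.ρ_smul hu h1, dE, dB, dQ]

theorem dconj_or (hu : Q u = 0) (hu' : Q u' = 0) (h0 : polar Q u u' = 0) {p : V} (h1 : polar Q u p = 0)
    (h3 : polar Q u' p = 0) (hx : Or Q u' x) (hx' : Or Q u x) :
    y u p * dX φ y c u' x * (y u p)⁻¹ = dX φ y c u' (x + dB Q c x (vv c 0 p) • dι c u) := by
  have h0' : polar Q u' u = 0 := by rwa [polar_comm]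
  have s2 : ∀ s : F, polar Q u' (s • u) = 0 := fun s => by rw [polar_smul_right, h0', smul_zero]
  have e1 := h.eqv _ (ρ_mem Q u' x.1) u p hu h1
  rw [ρ_fix h0 hx'.1, ρ_left hu' hx.1 (by rwa [polar_comm]), h.add _ _ _ hu h1
    (by rw [polar_smul_right, h0, smul_zero]), h.y_swap hu hu' h0, ← xx] at e1
  have e2 : y u p * xx φ u' x.1 * (y u p)⁻¹ = xx φ u' x.1 * y u' (polar Q p x.1 • u) := by
    rw [(h.xy_comm hu' (s2 _) hx.1).eq, ← inv_mul_eq_iff_eq_mul.2 e1, h.y_inv hu h1]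
    group
  have e3 := h.yy u u' p x.2 hu hu' h0 h1 h3 hx'.2 hx.2
  rw [h.y_swap hu hu' h0, ← h.xx_swap hu hu' h0, ← h.add _ _ _ hu' hx.2 (s2 _),
    ← (h.xy_comm hu' (by rw [polar_add_right, hx.2, s2, add_zero]) (s2 _)).eq] at e3
  calc _ = y u p * xx φ u' x.1 * (y u p)⁻¹ * (y u p * y u' x.2 * (y u p)⁻¹) := by rw [dX]; group
    _ = _ := by
      rw [e2, e3, mul_assoc, ← mul_assoc (y u' _), ← (h.xy_comm hu' (s2 _) (s2 _)).eq, mul_assoc,
        ← h.add _ _ _ hu' (s2 _) (by rw [polar_add_right, hx.2, s2, add_zero]), ← mul_assoc,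
        xx_mul hu' hx.1 (s2 _), dX]
      congr 2
      · simp [dB, polar_comm Q p]
      · simp [dB, polar_comm Q p, add_smul]; abel

theorem dconj_add (hu' : Q u' = 0) (h0 : polar Q u' u = 0) (hv : Or Q u' v) {g : G} (hw : Or Q u' w)
    (hx : Or Q u' x) (e1 : g * dX φ y c u' w * g⁻¹ = dX φ y c u' (dE Q c u v w))
    (e2 : g * dX φ y c u' x * g⁻¹ = dX φ y c u' (dE Q c u v x)) :
    g * dX φ y c u' (w + x) * g⁻¹ = dX φ y c u' (dE Q c u v (w + x)) := by
  have a := Or.dE h0 hv hw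
  have b := Or.dE h0 hv hx
  rw [dE_add, h.dadd hu' a.1 a.2 b.1 b.2, h.dadd hu' hw.1 hw.2 hx.1 hx.2, ← e1, ← e2]; group

theorem dconj_im (hu : Q u = 0) (hu' : Q u' = 0) (h0 : polar Q u u' = 0) {p : V} (hp : Q p = 0)
    (h1 : polar Q u p = 0) (h3 : polar Q u' p = 0) (hx : Or Q u' x) :
    y u p * dX φ y c u' x * (y u p)⁻¹ = dX φ y c u' (dE Q c u (vv c 0 p) x) := by
  have h0' : polar Q u' u = 0 := by rwa [polar_comm]
  have hv : Or Q u' (vv c 0 p) := ⟨polar_zero_right _ _, h3⟩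
  have A : ∀ x, Or Q u' x → Or Q u x → y u p * dX φ y c u' x * (y u p)⁻¹ =
      dX φ y c u' (dE Q c u (vv c 0 p) x) := fun x hx hx' => by
    rw [h.dconj_or hu hu' h0 h1 h3 hx hx', dE_or hx']
  by_cases hm : u ∈ ln F u' p
  · obtain ⟨a, b, e⟩ := mem_ln.1 hm
    by_cases hb : b = 0
    · refine A x hx ?_
      rw [← e, hb]
      constructor <;> simp [polar_smul_left, hx.1, hx.2]
    · have e2 : p = (b⁻¹ * a) • u' + b⁻¹ • u := by
        rw [← e, smul_add, smul_smul, smul_smul, ← add_assoc, h.addV, inv_mul_cancel₀ hb, one_smul, zero_add]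
      have e3 : y u p = dX φ y c u' (vv c 0 ((b⁻¹ * a) • u)) := by
        rw [h.dimg, e2, h.y_add_self hu (by rw [polar_smul_right, h0, smul_zero]), h.y_swap hu hu' h0]
      have e4 : dE Q c u (vv c 0 p) x = x + (dB Q c x (dι c u) * ⟨0, b⁻¹ * a⟩) • dι c u' := by
        have x1 : polar Q x.1 u' = 0 := polar_comm Q _ _ ▸ hx.1
        have x2 : polar Q x.2 u' = 0 := polar_comm Q _ _ ▸ hx.2
        have hq : dQ Q c (vv c 0 p) = 0 := by ext <;> simp [dQ, hp]
        rw [dE, hq]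
        refine D1.ext ?_ ?_
        · simp [dB, e2, polar_add_right, polar_smul_right, x2]
          linear_combination (norm := module) (c * b⁻¹ * polar Q x.2 u) • h.addV u
        · simp [dB, e2, polar_add_right, polar_smul_right, x1, x2]
          linear_combination (norm := module)
            (b⁻¹ * polar Q x.1 u + b⁻¹ * polar Q x.2 u) • h.addV u
      have o := (or_ι (c := c) (h.pol_self u')).smul (dB Q c x (dι c u) * ⟨0, b⁻¹ * a⟩)
      rw [e4, h.dadd hu' hx.1 hx.2 o.1 o.2, h.dself hu', mul_one, e3,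
        (h.dcomm hu' ⟨polar_zero_right _ _, by simp [polar_smul_right, h0']⟩ hx).eq, mul_inv_cancel_right]
  · obtain ⟨z, hz, hz1⟩ := h.exists_pol hm
    rw [mem_pp_ln] at hz
    rw [polar_comm] at hz1
    have o1 : Or Q u' (dB Q c x (dι c u) • dι c z) := (or_ι (polar_comm Q _ _ ▸ hz.1)).smul _
    have o2 : Or Q p (dB Q c x (dι c u) • dι c z) := (or_ι (polar_comm Q _ _ ▸ hz.2)).smul _
    rw [show x = x + dB Q c x (dι c u) • dι c z + dB Q c x (dι c u) • dι c z by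
      rw [add_assoc, h.dV, add_zero]]
    refine h.dconj_add hu' h0' hv (hx.add o1) o1 (A _ (hx.add o1) ?_) ?_
    · constructor <;> simp [dB, polar_add_right, polar_smul_right, hz1, polar_comm Q u, h.addF]
    · generalize dB Q c x (dι c u) • dι c z = w at o1 o2
      rw [h.swap _ _ hu hp h1, h.dconj_or hp hu' (polar_comm Q _ _ ▸ h3) (polar_comm Q _ _ ▸ h1) h0' o1 o2]
      congr 1
      have x1 : polar Q w.1 p = 0 := polar_comm Q _ _ ▸ o2.1
      have x2 : polar Q w.2 p = 0 := polar_comm Q _ _ ▸ o2.2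
      refine D1.ext ?_ ?_ <;> simp [dE, dB, dQ, hp, x1, x2, add_smul, add_assoc]

theorem dconj (hu : Q u = 0) (hu' : Q u' = 0) (h0 : polar Q u u' = 0) (h1 : polar Q u v.1 = 0)
    (h2 : polar Q u v.2 = 0) (h3 : polar Q u' v.1 = 0) (h4 : polar Q u' v.2 = 0) (h5 : polar Q u' x.1 = 0)
    (h6 : polar Q u' x.2 = 0) :
    dX φ y c u v * dX φ y c u' x * (dX φ y c u v)⁻¹ = dX φ y c u' (dE Q c u v x) := by
  have h0' : polar Q u' u = 0 := by rwa [polar_comm]
  let C : Dv c V → Prop := fun v => Or Q u v ∧ Or Q u' v ∧ ∀ x, Or Q u' x →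
    dX φ y c u v * dX φ y c u' x * (dX φ y c u v)⁻¹ = dX φ y c u' (dE Q c u v x)
  have ad : ∀ v w, C v → C w → C (v + w) := fun v w a b => ⟨a.1.add b.1, a.2.1.add b.2.1, fun x hx => by
    rw [h.dadd hu a.1.1 a.1.2 b.1.1 b.1.2, dE_dE (h.pol_self u) a.1 b.1, ← a.2.2 _ (Or.dE h0' b.2.1 hx),
      ← b.2.2 x hx]
    group⟩
  have re : ∀ p, polar Q u p = 0 → polar Q u' p = 0 → C (dι c p) := fun p a b =>
    ⟨or_ι a, or_ι b, fun x hx => h.dconj_re hu hu' h0 a b hx⟩
  let P : AddSubgroup V :=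
    { carrier := {p | C (vv c 0 p)}
      add_mem' := fun {a b} ha hb => by
        have := ad _ _ ha hb
        rwa [show vv c 0 a + vv c 0 b = vv c 0 (a + b) from D1.ext (add_zero _) rfl] at this
      zero_mem' := re 0 (polar_zero_right _ _) (polar_zero_right _ _)
      neg_mem' := fun {a} ha => by rwa [h.negV] }
  have im : C (vv c 0 v.2) := h.sing_ln u u' P (fun p hp hq => by
    rw [mem_pp_ln, polar_comm, polar_comm Q p] at hp
    refine ⟨⟨polar_zero_right _ _, hp.1⟩, ⟨polar_zero_right _ _, hp.2⟩, fun x hx => ?_⟩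
    rw [h.dimg]
    exact h.dconj_im hu hu' h0 hq hp.1 hp.2 hx) v.2
    (mem_pp_ln.2 ⟨polar_comm Q _ _ ▸ h2, polar_comm Q _ _ ▸ h4⟩)
  have := ad _ _ (re _ h1 h3) im
  rw [show dι c v.1 + vv c 0 v.2 = v from D1.ext (add_zero _) (zero_add _)] at this
  exact this.2.2 x ⟨h5, h6⟩

end HV

end CfsgLib.SLD
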