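import Cfsg.Agent.Lib.SLD.Loc

/-! The group generated by the model and the hats -/

set_option autoImplicit false
set_option linter.unusedSectionVars false

namespace CfsgLib.SLD

open Subgroup QuadraticMap CfsgLib.OrthE Module
open scoped commutatorElement Pointwise

universe u

variable {F V : Type} [Field F] [Finite F] [AddCommGroup V] [Module F V] [Finite V] {Q : QuadraticForm F V}
  {k : ℕ} {G : Type u} [Group G] [Finite G] {φ : Om Q →* G} {t : G} {y : V → V → G} {c : F}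

theorem top_xx_EE (e : ℕ → V) : xx φ (e 0) (e 1) ∈ im φ (EE Q e) ∧ xx φ (e 0) (e 2) ∈ im φ (EE Q e) :=
  ⟨ph_mem_im (mem_sup_left (by simpa using ρ_mem_Z (Q := Q) (e 0) (e 1) 1)),
    ph_mem_im (mem_sup_right (by simpa using ρ_mem_Z (Q := Q) (e 0) (e 2) 1))⟩

theorem top_EE_le (e : ℕ → V) : EE Q e ≤ A Q (e 0) := sup_le (Z_le_A _ _) (Z_le_A _ _)

theorem Fr.top_rp {e f : ℕ → V} (fr : Fr Q 3 e f) : RP Q (e 0) (e 1 + e 2) := by
  refine ⟨fr.qe 0 (by omega), fr.ts le_rfl _ (add_mem (e_mem_Tn (by omega)) (e_mem_Tn (by omega))), ?_,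
    (fr.rp (i := 0) (j := 1) (by omega) (by omega) (by omega)).u0, fun a ea => ?_⟩
  · rw [polar_add_right, fr.ee 0 (by omega) 1 (by omega), fr.ee 0 (by omega) 2 (by omega), add_zero]
  · have := congrArg (fun x => polar Q x (f 1)) ea
    simp only [polar_add_left, polar_smul_left, fr.ef 1 (by omega), fr.ef' 2 (by omega) 1 (by omega) (by omega),
      fr.ef' 0 (by omega) 1 (by omega) (by omega), add_zero, smul_zero] at this
    exact one_ne_zero this

/-- an odd subgroup of `N(L)` normalised by `EE` centralises it -/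
theorem Mod.cent_E (h : Mod Q k φ) {e f : ℕ → V} (fr : Fr Q 3 e f) {O : Subgroup G} (hO : Odd (Nat.card O))
    (h1 : O ≤ normalizer (φ.range : Set G)) (h2 : im φ (EE Q e) ≤ normalizer (O : Set G)) :
    O ≤ centralizer (im φ (EE Q e) : Set G) := by
  have key : ∀ w ∈ Tn F e 3, RP Q (e 0) w →
      O ⊓ centralizer {xx φ (e 0) w} ≤ centralizer (im φ (EE Q e) : Set G) := by
    rintro w hw r v ⟨hv, hc⟩ x hx
    have hq := h.nQ r (h1 hv) (UFP.mem_cent1.1 hc).symm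
    have hx' : x ∈ im φ (NT Q (ln F (e 0) w)) := im_mono (fun γ hγ => by
      obtain ⟨w', hw', rfl⟩ := (h.cen_EE fr).1 hγ
      exact ρ_mem_NT r.ts (left_mem_ln _ _) (mem_pp_ln.2
        ⟨(fr.ts le_rfl).le_pp hw' _ (e_mem_Tn (by omega)), (fr.ts le_rfl).le_pp hw' _ hw⟩)) hx
    have e3 : v * x * v⁻¹ * x⁻¹ ∈ O := by
      simpa only [mul_assoc] using O.mul_mem hv (UFP.conj_mem (h2 hx) (O.inv_mem hv))
    have e4 := UFP.eq_one_of_odd (pg_im (h.NT_two r.ts)) (mul_mem (UFP.conj_mem hq hx') (inv_mem hx'))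
      (UFP.odd_orderOf hO e3) (pow_orderOf_eq_one _)
    rw [mul_inv_eq_one, mul_inv_eq_iff_eq_mul] at e4
    exact e4.symm
  have r1 := fr.rp (i := 0) (j := 1) (by omega) (by omega) (by omega)
  have r2 := fr.rp (i := 0) (j := 2) (by omega) (by omega) (by omega)
  have e12 := xx_mul (φ := φ) r1.qu r1.uv r2.uv
  exact UFP.le_of_four hO (h.xx_sq _ _) (h.xx_sq _ _) (xx_comm _ _ _) (h.xx_ne r1) (h.xx_ne r2)
    (e12 ▸ h.xx_ne fr.top_rp) (h2 (top_xx_EE e).1) (h2 (top_xx_EE e).2) (key _ (e_mem_Tn (by omega)) r1)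
    (key _ (e_mem_Tn (by omega)) r2)
    (e12 ▸ key _ (add_mem (e_mem_Tn (by omega)) (e_mem_Tn (by omega))) fr.top_rp)

/-- a singular orthogonal pair is a root pair or degenerate -/
theorem top_rp_or {u v : V} (hu : Q u = 0) (hv : Q v = 0) (huv : polar Q u v = 0) :
    RP Q u v ∨ u = 0 ∨ ∃ a : F, v = a • u := by
  by_cases u0 : u = 0
  · exact .inr (.inl u0)
  by_cases hd : ∃ a : F, v = a • u
  · exact .inr (.inr hd)
  exact .inl ⟨hu, hv, huv, u0, fun a e => hd ⟨a, e⟩⟩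

namespace HV

variable (h : HV Q k φ t y c)
include h

theorem top_tl {l : G} (hl : l ∈ φ.range) : l * t = t * l := h.tC l hl

theorem G0_le_of {K : Subgroup G} (hL : φ.range ≤ K) (hy : ∀ u v, RP Q u v → y u v ∈ K) : G0 φ y ≤ K := by
  refine G0_le_iff.2 ⟨hL, fun u v hu hv => ?_⟩
  let P : AddSubgroup V :=
    { carrier := {x | polar Q u x = 0 ∧ y u x ∈ K}
      add_mem' := fun {a b} ha hb => ⟨by rw [polar_add_right, ha.1, hb.1, add_zero],
        h.add u a b hu ha.1 hb.1 ▸ mul_mem ha.2 hb.2⟩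
      zero_mem' := ⟨polar_zero_right Q u, h.y_zero hu ▸ one_mem _⟩
      neg_mem' := fun {a} ha => by rwa [h.negV] }
  refine (h.sing_one u P (fun x hx qx => ⟨hx, ?_⟩) v hv).2
  obtain r | rfl | ⟨a, rfl⟩ := top_rp_or hu qx hx
  · exact hy _ _ r
  · have := h.smul 0 x 0 hu hx
    rw [smul_zero, zero_smul, h.y_zero hu] at this
    exact this ▸ one_mem _
  · exact h.self u a hu ▸ one_mem _

theorem G0_eq {u v : V} (r : RP Q u v) : G0 φ y = φ.range ⊔ HX.X fun s : F => y u (s • v) := by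
  refine le_antisymm (h.G0_le_of le_sup_left fun u' v' r' => ?_) (sup_le L_le_G0 (HX.X_le.2 fun s =>
    y_mem r.qu (by rw [polar_smul_right, r.uv, smul_zero])))
  obtain ⟨γ, hγ, rfl, rfl⟩ := h.rp_conj r r'
  rw [← h.eqv γ hγ u v r.qu r.uv]
  exact mul_mem (mul_mem (mem_sup_left (ph_mem _)) (mem_sup_right
    (by simpa using HX.mem_X (fun s : F => y u (s • v)) 1))) (mem_sup_left (inv_mem (ph_mem _)))

theorem cent_le {g : G} (hg : g * t = t * g) : g ∈ normalizer (G0 φ y : Set G) := by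
  have hN := h.toSit.cN hg
  refine mem_normalizer_fintype fun x hx => h.G0_le_of (K := (G0 φ y).comap (MulAut.conj g).toMonoidHom)
    (fun x hx => L_le_G0 (UFP.conj_mem hN hx)) (fun u v r => ?_) hx
  show g * y u v * g⁻¹ ∈ G0 φ y
  obtain ⟨u', v', r', e⟩ := h.rt_conj hN ⟨u, v, r, rfl⟩
  obtain ⟨s, e1⟩ := h.chr u' v' (g * y u v * g⁻¹) r' (by
    rw [show g * y u v * g⁻¹ * (g * y u v * g⁻¹) = g * (y u v * y u v) * g⁻¹ by group, h.y_sq r.qu r.uv]; group)
    (fun x hx => by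
      have h1 : g⁻¹ * x * g ∈ φ.range ⊓ centralizer {xx φ u v} := ⟨UFP.conj_mem' hN hx.1, UFP.mem_cent1.2 (by
        calc _ = g⁻¹ * (g * xx φ u v * g⁻¹ * x) * g := by group
          _ = g⁻¹ * (x * (g * xx φ u v * g⁻¹)) * g := by rw [e, UFP.mem_cent1.1 hx.2]
          _ = _ := by group)⟩
      calc _ = g * (g⁻¹ * x * g * y u v) * g⁻¹ := by group
        _ = _ := by rw [h.cY u v r _ h1]; group) (by
    calc _ = g * (y u v * (g⁻¹ * t * g) * (y u v)⁻¹) * g⁻¹ := by group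
      _ = g * t * g⁻¹ * (g * xx φ u v * g⁻¹) := by
        rw [mul_assoc g⁻¹, ← hg, inv_mul_cancel_left, h.mv u v r.qu r.uv]; group
      _ = _ := by rw [hg, mul_inv_cancel_right, e])
  exact e1 ▸ mul_mem (y_mem r'.qu r'.uv) (L_le_G0 (xx_mem _ _))

theorem t_norm : t ∈ normalizer (G0 φ y : Set G) := by
  exact h.cent_le rfl

theorem top_fr : ∃ e f, Fr Q 3 e f := by
  obtain ⟨e, f, fr⟩ := h.exists_fr
  exact ⟨e, f, fr.mono (by have := h.four; omega)⟩

theorem t_not_cent : t ∉ centralizer (G0 φ y : Set G) := by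
  intro e'
  obtain ⟨e, f, fr⟩ := h.top_fr
  have r := fr.rp (i := 0) (j := 1) (by omega) (by omega) (by omega)
  have := h.mv _ _ r.qu r.uv
  rw [e' _ (y_mem r.qu r.uv), mul_inv_cancel_right, left_eq_mul] at this
  exact h.xx_ne r this

theorem cent_odd : Odd (Nat.card (centralizer (G0 φ y : Set G))) := by
  exact SLE.odd_of_inv h.t2 (Core.normalizer_le_normalizer_centralizer _ h.t_norm) fun c hc c2 ct =>
    (h.toStd.invol (centralizer_le L_le_G0 hc) ct c2).resolve_right fun e => h.t_not_cent (e ▸ hc)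

theorem G0_le {K : Subgroup G} (hK : G0 φ y ≤ normalizer (K : Set G)) (hL : φ.range ≤ K) : G0 φ y ≤ K := by
  obtain ⟨e, f, fr⟩ := h.top_fr
  have r := fr.rp (i := 0) (j := 1) (by omega) (by omega) (by omega)
  have r2 := fr.rp (i := 0) (j := 2) (by omega) (by omega) (by omega)
  rw [h.G0_eq r]
  refine sup_le hL (HX.X_le.2 fun s => ?_)
  have p1 : polar Q (e 1) (s • f 2) = 0 := by
    rw [polar_smul_right, fr.ef' 1 (by omega) 2 (by omega) (by omega), smul_zero]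
  have e1 := h.eqv _ (ρ_mem Q (e 1) (s • f 2)) _ _ r2.qu r2.uv
  rw [ρ_fix r.uv (by rw [polar_smul_right, fr.ef' 0 (by omega) 2 (by omega) (by omega), smul_zero]),
    ρ_left r.qv p1 (fr.ee 2 (by omega) 1 (by omega)), polar_smul_right, fr.ef 2 (by omega), smul_eq_mul, mul_one,
    h.add _ _ _ r.qu r2.uv (by rw [polar_smul_right, r.uv, smul_zero])] at e1
  have := mul_mem (UFP.conj_mem' (hK (y_mem r2.qu r2.uv)) (hL (ph_mem (ρ Q (e 1) (s • f 2)))))
    (inv_mem (hL (ph_mem (ρ Q (e 1) (s • f 2)))))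
  rwa [mul_assoc, mul_assoc, ← mul_assoc (ph φ _), e1, inv_mul_cancel_left] at this

theorem iso_of {Gs G₁ R₁ R₀ : Subgroup G} (hG : SLE.Glob Gs t) (hL : φ.range ≤ Gs) (ht : t ∉ Gs) (h0 : R₀ ≤ R₁)
    (h1 : R₁ ≤ φ.range) (h2 : ∀ e ∈ R₀, e * e = 1)
    (h3 : ∀ g ∈ normalizer (φ.range : Set G), g ∈ centralizer (R₁ : Set G) →
      ∃ e ∈ R₀, ∃ c ∈ centralizer (φ.range : Set G), g = e * c)
    (h4 : ∀ e ∈ R₀, ∃ p ∈ G0 φ y, p * p = 1 ∧ HX.CO φ.range t p ∧ p ∈ centralizer (R₁ : Set G) ∧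
      p * t * p⁻¹ = t * e) : UFP.Iso G₁ t R₁ := by
  have := hG.nrm
  have dec : ∀ g ∈ Gs, g ∈ centralizer (R₁ : Set G) → g * t = t * g → ∃ e ∈ R₀,
      ∃ o ∈ centralizer (φ.range : Set G), o * t = t * o ∧ Odd (orderOf o) ∧ g = e * o := fun g g1 g2 g3 => by
    obtain ⟨e, he, c, hc, rfl⟩ := h3 g (h.CN (UFP.mem_cent1.2 g3.symm)) g2
    have eL := h1 (h0 he)
    obtain ⟨o, o1, o2, o3, rfl | rfl⟩ := h.two'.dec hc (mul_left_cancel (a := e) (by
      rw [← mul_assoc, g3, ← mul_assoc, ← mul_assoc, h.top_tl eL]))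
    · exact ⟨e, he, c, hc, o2, o3, rfl⟩
    · exact absurd ((Gs.mul_mem_cancel_right (hG.mem_of_odd o3 (by rw [pow_orderOf_eq_one]; exact one_mem _))).1
        ((Gs.mul_mem_cancel_left (hL eL)).1 g1)) ht
  have key : ∀ k, ∀ d ∈ Gs, d ∈ centralizer (R₁ : Set G) → d * t * d = t → d ^ 2 ^ k = 1 → d ∈ R₀ := by
    intro k
    induction k with
    | zero => intro d _ _ _ e; rw [pow_zero, pow_one] at e; exact e ▸ one_mem _
    | succ k ih =>
      intro d d1 d2 d3 d4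
      have hd := ih (d * d) (mul_mem d1 d1) (mul_mem d2 d2) (by
        rw [show d * d * t * (d * d) = d * (d * t * d) * d by group, d3, d3]) (by
        rw [← pow_two, ← pow_mul, ← pow_succ', d4])
      have dd : d * d = 1 := by
        obtain ⟨p, p1, p2, p3, p4, p5⟩ := h4 _ hd
        obtain ⟨e, he, o, o1, o2, o3, e1⟩ := dec (p⁻¹ * d)
          (mul_mem (inv_mem (h.G0_le le_normalizer_of_normal hL p1)) d1) (mul_mem (inv_mem p4) d2) (by
            rw [eq_inv_of_mul_eq_one_left (h2 _ hd)] at p5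
            calc _ = p⁻¹ * (d * t * d * (d * d)⁻¹) * d := by group
              _ = _ := by rw [d3, ← p5]; group)
        have c1 : Commute e p := p4 e (h0 he)
        have c2 : Commute p o := p3 o o1 o2 o3
        have c3 : Commute e o := o1 e (h1 (h0 he))
        have e2 : d * d = o * o := by
          rw [inv_mul_eq_iff_eq_mul.1 e1, ← pow_two, (c1.symm.mul_right c2).mul_pow, c3.mul_pow, pow_two, pow_two,
            pow_two, p2, h2 e he, one_mul, one_mul]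
        have := h2 _ hd
        rw [e2] at this ⊢
        exact UFP.eq_one_of_odd (UFP.pgroup_zpowers_of_sq this) (mem_zpowers _) o3 (by
          rw [← pow_two, ← pow_mul, mul_comm, pow_mul, pow_orderOf_eq_one, one_pow])
      obtain ⟨e, he, o, o1, o2, o3, rfl⟩ := dec d d1 d2 (by
        rw [← d3, mul_assoc (d * t), dd, mul_one, d3])
      rw [← pow_two, (show Commute e o from o1 e (h1 (h0 he))).mul_pow, pow_two, pow_two, h2 e he, one_mul] at dd
      rwa [UFP.eq_one_of_odd (UFP.pgroup_zpowers_of_sq dd) (mem_zpowers _) o3 (pow_orderOf_eq_one o), mul_one]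
  intro m _ hm P hP _ p1 p2
  have tR : t ∈ centralizer (R₁ : Set G) := centralizer_le h1 h.tC
  obtain ⟨k, hk⟩ := hP ⟨_, mul_mem (inv_mem p1) p2⟩
  refine h0 (key k _ ?_ (mul_mem (inv_mem tR) (mul_mem (mul_mem hm tR) (inv_mem hm))) ?_ (congrArg Subtype.val hk))
  · simpa [commutatorElement_def, mul_assoc] using
      hG.comm_le (commutator_mem_commutator (mem_top t⁻¹) (mem_top m))
  · rw [show t⁻¹ * (m * t * m⁻¹) * t * (t⁻¹ * (m * t * m⁻¹)) = t⁻¹ * (m * (t * t) * m⁻¹) by group, h.t2,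
      inv_eq_of_mul_eq_one_right h.t2]; group

theorem top_mem_A {u : V} (hu : Q u = 0) {x : G} (hx : x ∈ im φ (A Q u)) : ∃ w, polar Q u w = 0 ∧ x = xx φ u w := by
  obtain ⟨γ, hγ, -, rfl⟩ := mem_im.1 hx
  obtain ⟨w, hw, rfl⟩ := (mem_A hu).1 hγ
  exact ⟨w, hw, rfl⟩

theorem top_cA {u v : V} (hu : Q u = 0) (hv : polar Q u v = 0) : y u v ∈ centralizer (im φ (A Q u) : Set G) :=
  fun x hx => by
    obtain ⟨w, hw, rfl⟩ := h.top_mem_A hu hx
    exact h.xy_comm hu hv hw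

theorem top_cYf {u v : V} (r : RP Q u v) (s : F) : y u (s • v) ∈ centralizer (im φ (Yf Q u v) : Set G) := by
  by_cases s0 : s = 0
  · rw [s0, zero_smul, h.y_zero r.qu]; exact one_mem _
  refine centralizer_le (im_le.2 fun γ hγ h1 => ?_) (h.cY _ _ (r.smul s0))
  exact ⟨ph_mem _, UFP.mem_cent1.2 (ph_comm h1 (ρ_mem Q _ _) ((mem_Yf.1 hγ).2 s)).symm⟩

theorem top_isoA {Gs G₁ : Subgroup G} (hG : SLE.Glob Gs t) (hL : φ.range ≤ Gs) (ht : t ∉ Gs) {u : V}
    (hu : Q u = 0) (u0 : u ≠ 0) : UFP.Iso G₁ t (im φ (A Q u)) := by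
  refine h.iso_of hG hL ht le_rfl (im_le_L _) (fun x hx => ?_) (fun g g1 g2 => ?_) fun x hx => ?_
  · obtain ⟨w, -, rfl⟩ := h.top_mem_A hu hx
    exact h.xx_sq _ _
  · obtain ⟨w, -, c, hc, e⟩ := h.cA' hu u0 g1 g2
    exact ⟨_, ph_mem_im (ρ_mem_A u w), c, hc, e⟩
  · obtain ⟨w, hw, rfl⟩ := h.top_mem_A hu hx
    exact ⟨y u w, y_mem hu hw, h.y_sq hu hw, h.co _ _ hu hw, h.top_cA hu hw, h.mv _ _ hu hw⟩

theorem top_isoQ {Gs G₁ : Subgroup G} (hG : SLE.Glob Gs t) (hL : φ.range ≤ Gs) (ht : t ∉ Gs) {u v : V}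
    (r : RP Q u v) : UFP.Iso G₁ t (im φ (NT Q (ln F u v))) := by
  have hz : ∀ x ∈ im φ (Z Q u v), ∃ s : F, x = xx φ u (s • v) := fun x hx => by
    obtain ⟨γ, hγ, -, rfl⟩ := mem_im.1 hx
    obtain ⟨s, rfl⟩ := (mem_Z r.qu r.uv).1 hγ
    exact ⟨s, rfl⟩
  refine h.iso_of hG hL ht (im_mono (h.Z_le_NT r)) (im_le_L _) (fun x hx => ?_) (fun g g1 g2 => ?_) fun x hx => ?_
  · obtain ⟨s, rfl⟩ := hz x hx
    exact h.xx_sq _ _
  · obtain ⟨s, c, hc, e⟩ := h.cQ' r g1 g2
    exact ⟨_, ph_mem_im (ρ_mem_Z u v s), c, hc, e⟩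
  · obtain ⟨s, rfl⟩ := hz x hx
    have hs : polar Q u (s • v) = 0 := by rw [polar_smul_right, r.uv, smul_zero]
    exact ⟨y u (s • v), y_mem r.qu hs, h.y_sq r.qu hs, h.co _ _ r.qu hs,
      centralizer_le (im_mono ((h.NT_le_Fx r).trans h.Fx_le_Yf)) (h.top_cYf r s), h.mv _ _ r.qu hs⟩

theorem top_hat {U₀ : Subgroup G} {e f : ℕ → V} (fr : Fr Q (k - 1) e f) (hE : im φ (EE Q e) ≤ U₀) :
    UFP.Hat t U₀ (xx φ (e 0) (e 1)) := by
  have f3 : Fr Q 3 e f := fr.mono (by have := h.four; omega)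
  have r := f3.rp (i := 0) (j := 1) (by omega) (by omega) (by omega)
  exact ⟨y (e 0) (e 1), im φ (EE Q e), (h.mv _ _ r.qu r.uv).symm, (top_xx_EE e).1, hE,
    fun x hx => UFP.mem_cent1.2 (h.top_cA r.qu r.uv x (im_mono (top_EE_le e) hx)).symm,
    fun _ h1 h2 h3 => (h.toMod.cent_E f3 h1 (h2.trans h.CN) h3).trans
      (centralizer_le (Set.singleton_subset_iff.2 (top_xx_EE e).1))⟩

theorem uw {Gs : Subgroup G} (hG : SLE.Glob Gs t) (hL : φ.range ≤ Gs) (ht : t ∉ Gs)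
    (hu : UFP.U (normalizer (G0 φ y : Set G)) t) {e f : ℕ → V} (fr : Fr Q (k - 1) e f) :
    UFP.UW (normalizer (G0 φ y : Set G)) t (im φ (UF Q e (k - 1))) := by
  have k4 := h.four
  have r := fr.rp (i := 0) (j := 1) (by omega) (by omega) (by omega)
  have AU : A Q (e 0) ≤ UF Q e (k - 1) := le_sup_left.trans (h.RR_le_UF fr)
  have NU := h.NT_le_UF' fr
  obtain ⟨H, hH⟩ : ∃ H, H = closure {x | UFP.Hat t (im φ (UF Q e (k - 1))) x} := ⟨_, rfl⟩
  let P : V → AddSubgroup V := fun u =>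
    { carrier := {x | Q u = 0 → polar Q u x = 0 ∧ xx φ u x ∈ H}
      add_mem' := fun {a b} ha hb hu => ⟨by rw [polar_add_right, (ha hu).1, (hb hu).1, add_zero],
        xx_mul (φ := φ) hu (ha hu).1 (hb hu).1 ▸ mul_mem (ha hu).2 (hb hu).2⟩
      zero_mem' := fun _ => ⟨polar_zero_right Q u, xx_zero (φ := φ) u ▸ one_mem _⟩
      neg_mem' := fun {a} ha => by rwa [h.negV] }
  have h0 : ∀ w, polar Q (e 0) w = 0 → xx φ (e 0) w ∈ H := fun w hw =>
    (h.sing_one (e 0) (P (e 0)) (fun x hx qx _ => ⟨hx, by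
      obtain r' | e0 | ⟨a, rfl⟩ := top_rp_or r.qu qx hx
      · obtain ⟨e', f', fr', e1, rfl⟩ := h.fr_rp r'
        rw [← e1, hH]
        exact subset_closure (h.top_hat fr' (im_mono ((top_EE_le e').trans (e1 ▸ AU))))
      · exact absurd e0 r.u0
      · rw [xx_self]; exact one_mem _⟩) w hw r.qu).2
  have h1 : ∀ w ∈ pp Q (ln F (e 0) (e 1)), xx φ (e 1) w ∈ H := fun w hw =>
    (h.sing_ln (e 0) (e 1) (P (e 1)) (fun x hx qx _ => ⟨by rw [polar_comm]; exact (mem_pp_ln.1 hx).2, by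
      have x0 := (mem_pp_ln.1 hx).1
      have x1 : polar Q (e 1) x = 0 := by rw [polar_comm]; exact (mem_pp_ln.1 hx).2
      by_cases hx' : x ∈ ln F (e 0) (e 1)
      · obtain ⟨a, b, rfl⟩ := mem_ln.1 hx'
        rw [← xx_mul r.qv (by rw [polar_smul_right, r.vu, smul_zero]) (by rw [polar_smul_right, h.pol_self, smul_zero]),
          xx_self, mul_one, h.xx_swap r.qu r.qv r.uv]
        exact h0 _ (by rw [polar_smul_right, r.uv, smul_zero])
      have r' : RP Q (e 1) x := ⟨r.qv, qx, x1, r.v0, fun a ea =>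
        hx' (ea ▸ Submodule.smul_mem _ _ (right_mem_ln _ _))⟩
      obtain ⟨e', f', fr', e1, e2, e3⟩ := h.fr_three r' r.qu r.vu x0 (fun hm => by
        obtain ⟨a, b, eab⟩ := mem_ln.1 hm
        by_cases b0 : b = 0
        · exact r.symm.ind a (by rw [← eab, b0, zero_smul, add_zero])
        · refine hx' ?_
          rw [show x = b⁻¹ • (e 0 - a • e 1) by rw [← eab, add_sub_cancel_left, inv_smul_smul₀ b0]]
          exact Submodule.smul_mem _ _ (sub_mem (left_mem_ln _ _) (Submodule.smul_mem _ _ (right_mem_ln _ _))))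
      rw [← e1, ← e2, hH]
      refine subset_closure (h.top_hat fr' (im_mono (le_trans (sup_le (Z_le.2 fun s => ?_) (Z_le.2 fun s => ?_)) NU)))
      · rw [e1, e2]
        exact ρ_mem_NT r.ts (right_mem_ln _ _) (Submodule.smul_mem _ _ hx)
      · rw [e1, e3]
        exact ρ_mem_NT r.ts (right_mem_ln _ _) (Submodule.smul_mem _ _ (r.ts.le_pp (left_mem_ln _ _)))⟩) w hw r.qv).2
  have eA := h.NT_one r.qu
  have hT : ∀ i : Bool, ∃ n ≤ k - 1, cond i (Submodule.span F {e 0}) (ln F (e 0) (e 1)) = Tn F e n := by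
    rintro (_ | _)
    exacts [⟨2, by omega, (Tn_two e).symm⟩, ⟨1, by omega, (Tn_one e).symm⟩]
  have hR : ∀ i : Bool, NT Q (cond i (Submodule.span F {e 0}) (ln F (e 0) (e 1))) ≤ UF Q e (k - 1) := fun i => by
    obtain ⟨n, hn, e'⟩ := hT i
    exact e' ▸ h.NT_le_UF fr hn
  refine UFP.UWData.uw (L := φ.range) (Zh := HX.X fun s : F => y (e 0) (s • e 1))
    (X := {x | UFP.Hat t (im φ (UF Q e (k - 1))) x})
    (R := fun i : Bool => im φ (NT Q (cond i (Submodule.span F {e 0}) (ln F (e 0) (e 1)))))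
    (P := fun i : Bool => im φ (St Q (cond i (Submodule.span F {e 0}) (ln F (e 0) (e 1)))))
    ⟨⟨true⟩, fun _ e => e, fun l hl => UFP.mem_cent1.2 (h.top_tl hl).symm, fun i => im_mono fun γ hγ => ?_,
      fun i => im_le_L _, ?_, fun K hK e' => h.le_of_norm hK (e' _ (h.top_hat fr (im_mono ((top_EE_le e).trans AU))))
        (xx_mem _ _) (h.xx_ne r), ?_, fun i => (h.U_two fr).to_le (im_mono (hR i)),
      fun i => im_le.2 fun γ hγ h2 => (ac_ph h2).norm_im (NT_conj fun x hx => ?_),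
      fun i e => h.toSit.t_not_mem (im_le_L _ e), ?_,
      fun i => HX.X_le.2 fun s => centralizer_le (im_mono ((hR i).trans (h.UF_le_Yf fr))) (h.top_cYf r s),
      fun z hz => ?_,
      UFP.fin_of (fun K hK e => le_sup_right.trans ((h.G0_eq r).ge.trans (h.G0_le ((h.G0_eq r).le.trans hK) e)))
        (by rw [← h.G0_eq r]; exact centralizer_le_normalizer _)⟩ hu
  · obtain ⟨n, hn, e'⟩ := hT i
    rw [e']
    exact Ys.mem_St (UF_le_Om _ _ hγ) fun x hx => smul_mem_Tn ((h.mem_UF fr).1 hγ).2.1.mem hn hx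
  · rw [← im_Om]
    refine (im_mono (h.gen_St r)).trans ?_
    exact (im_sup inf_le_left inf_le_left).le.trans
      (sup_le (le_iSup_of_le true le_rfl) (le_iSup_of_le false le_rfl))
  · rw [← hH]
    rintro (_ | _)
    · refine im_le.2 fun γ hγ _ => ?_
      obtain ⟨w, hw, w', hw', rfl⟩ := h.mem_NT_ln r hγ
      rw [ph_mul (ρ_mem Q _ _) (ρ_mem Q _ _)]
      exact mul_mem (h0 w (by rw [polar_comm]; exact (mem_pp_ln.1 hw).1)) (h1 w' hw')
    · intro x hx
      obtain ⟨w, hw, rfl⟩ := h.top_mem_A r.qu (eA ▸ hx)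
      exact h0 w hw
  · have := MulAction.mem_stabilizer_iff.1 hγ.2
    rw [← SetLike.mem_coe, ← this]
    exact Set.smul_mem_smul_set hx
  · rintro (_ | _)
    · exact h.top_isoQ hG hL ht r
    · exact eA ▸ h.top_isoA hG hL ht r.qu r.u0
  · have hs : ∀ s : F, polar Q (e 0) (s • e 1) = 0 := fun s => by rw [polar_smul_right, r.uv, smul_zero]
    obtain ⟨s, rfl⟩ := (HX.mem_X_iff (fun s s' => by rw [add_smul, h.add _ _ _ r.qu (hs s) (hs s')])).1 hz
    rw [h.mv _ _ r.qu (hs s), inv_mul_cancel_left, ← hH]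
    exact h0 _ (hs s)

end HV

end CfsgLib.SLD
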