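import Cfsg.Agent.Lib.SLD.Top
import Cfsg.Agent.Lib.SLD.Sml
import Cfsg.Agent.Lib.Tech.Invol

/-! The field case: fusion -/

set_option autoImplicit false
set_option linter.unusedSectionVars false

namespace CfsgLib.SLD

open Subgroup QuadraticMap CfsgLib.OrthE Module
open scoped commutatorElement Pointwise

universe u

variable {F V : Type} [Field F] [Finite F] [AddCommGroup V] [Module F V] [Finite V] {Q : QuadraticForm F V}
  {k : ℕ} {G : Type u} [Group G] [Finite G] {φ : Om Q →* G} {t : G} {y : V → V → G} {c : F}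
  {K V' : Type} [Field K] [Finite K] [AddCommGroup V'] [Module K V'] [Finite V'] {Q' : QuadraticForm K V'}
  {ψ : Om Q' →* G} {j : F →+* K} {ι : V →+ V'} {τ : SI Q'} {Gs : Subgroup G}

/-- the centraliser of a semilinear involution in the model -/
theorem Ds.card_cen {γ : SI Q'} (h : Ds Q j ι γ) (m : Mod Q' k ψ) {s : G} (hs : Ac ψ s γ) :
    Nat.card (ψ.range ⊓ centralizer {s} : Subgroup G) = Nat.card (Om Q) := by
  obtain ⟨d, h1, -, -, h2⟩ := h.exists_hom m.toOS0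
  rw [Nat.card_congr (MonoidHom.ofInjective (f := ψ.comp d) (m.inj.comp h1)).toEquiv]
  congr 2
  ext g
  rw [← MonoidHom.map_range, mem_inf, mem_centralizer_singleton_iff]
  constructor
  · rintro ⟨⟨b, rfl⟩, h3⟩
    exact ⟨b, (h2 b).2 ((hs.comm_iff m.inj b.2).1 (by rw [ph_coe]; exact h3.symm)), rfl⟩
  · rintro ⟨b, hb, rfl⟩
    exact ⟨⟨b, rfl⟩, (ph_coe (φ := ψ) b ▸ hs.comm b.2 ((h2 b).1 hb)).symm⟩

namespace DblF

variable (h : DblF φ k t y c ψ j ι τ)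
include h

theorem tN : t ∈ normalizer (ψ.range : Set G) :=
  h.ac.norm

theorem oddW : Odd (Nat.card (centralizer (ψ.range : Set G))) :=
  h.eqG ▸ h.toHV.cent_odd

theorem L_le (hG : SLE.Glob Gs t) (hL : φ.range ≤ Gs) : ψ.range ≤ Gs :=
  have := hG.nrm
  h.eqG ▸ h.toHV.G0_le le_normalizer_of_normal hL

theorem semi {ψ' : Om Q' →* G} (m : Mod Q' k ψ') {x : G} {γ : SI Q'} (hγ : Ac ψ' (x * t * x⁻¹) γ) :
    γ.σ ≠ 1 := fun e => by
  obtain ⟨D, h1, h2, h3⟩ := m.lin_big hγ (h.toSit.cj x).t2 e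
  have h4 := (h.toSit.cj x).small' h2 (h1.trans inf_le_right)
  rw [h.ds.card, ← pow_mul, mul_comm 2, pow_mul, Nat.pow_le_pow_iff_left two_ne_zero] at h3
  have : 0 < Nat.card D := Nat.card_pos
  omega

/-- the conjugates of `t` in `N(G₀)` are native -/
theorem native {x : G} (hx : x * t * x⁻¹ ∈ normalizer (ψ.range : Set G)) : x ∈ normalizer (ψ.range : Set G) := by
  have p2 : ∀ {g : G}, g * g = 1 → IsPGroup 2 (zpowers g) := UFP.pgroup_zpowers_of_sq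
  obtain ⟨S, h1, h2, hS, h3⟩ := SLE.exists_syl (p2 h.t2) (zpowers_le.2 h.tN)
  obtain ⟨n, hn, h4⟩ := h3 _ (zpowers_le.2 hx) (p2 (h.toSit.cj x).t2)
  replace h4 := h4 _ (mem_zpowers _)
  rw [show n * (x * t * x⁻¹) * n⁻¹ = n * x * t * (n * x)⁻¹ by group] at h4
  rw [← Subgroup.mul_mem_cancel_left _ hn]
  generalize n * x = x at h4
  obtain ⟨ψ', e, f, m, hr, -, h5⟩ := h.mod'.remod hS h2
  obtain ⟨γ, hγ, -⟩ := h5 t (h1 (mem_zpowers t))
  obtain ⟨δ, hδ, -⟩ := h5 _ h4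
  have sx := h.toSit.cj x
  have a1 := h.semi m (x := 1) (by simpa using hγ)
  have a2 := h.semi m hδ
  have b1 := m.ac_sq hγ h.t2
  have b2 := m.ac_sq hδ sx.t2
  have b3 : δ.σ = γ.σ := σ_eq_of_sq (by rw [← σ_mul, b2, σ_one]) (by rw [← σ_mul, b1, σ_one]) a2 a1
  obtain ⟨F₀, _, _, j₀, hj⟩ := exists_fld γ.σ
  obtain ⟨V₀, _, _, _, Q₀, ι₀, d₀⟩ := exists_ds b1 a1 j₀ hj
  obtain ⟨V₁, _, _, _, Q₁, ι₁, d₁⟩ := exists_ds b2 a2 j₀ (b3 ▸ hj)
  obtain ⟨θ, hθ⟩ := (d₀.os0 m.toOS0).iso_of_dvd (d₁.os0 m.toOS0) (by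
    rw [← d₀.card_cen m hγ, ← d₁.card_cen m hδ]
    refine (card_dvd_of_le (sx.pf_le inf_le_right (m.semi_big hδ sx.t2 a2).2.2.1)).trans ?_
    rw [← Nat.card_congr (MonoidHom.ofInjective sx.inj).toEquiv,
      Nat.card_congr (MonoidHom.ofInjective h.inj).toEquiv]
    exact card_dvd_of_le (le_inf (hr ▸ h.eqG ▸ L_le_G0) fun l hl => mem_centralizer_singleton_iff.2 (h.com hl)))
  obtain ⟨a, ha, h6⟩ := d₀.conj m.toOS0 d₁ θ hθ
  have h7 := (((ac_ph ha).mul hδ).mul (ac_ph ha).inv).mul hγ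
  rw [h6, b1, ac_one, hr] at h7
  have hl : ph ψ' a ∈ ψ.range := hr ▸ ph_mem a
  generalize ph ψ' a = l at h7 hl
  obtain ⟨i, hi⟩ := Tech.exists_pow_conj_of_odd (by rw [conj_mul, sx.t2, mul_one, mul_inv_cancel]) h.t2
    (UFP.odd_orderOf h.oddW h7)
  have h8 := pow_mem h7 i
  generalize (l * (x * t * x⁻¹) * l⁻¹ * t) ^ i = o at hi h8
  have h9 := h.toHV.cent_le (g := o⁻¹ * l * x) (by
    calc _ = o⁻¹ * (l * (x * t * x⁻¹) * l⁻¹) * l * x := by group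
      _ = _ := by rw [← hi]; group)
  rw [← h.eqG] at h9
  exact (Subgroup.mul_mem_cancel_left _
    (mul_mem (inv_mem (centralizer_le_normalizer _ h8)) (le_normalizer hl))).1 h9

theorem isU : UFP.U (normalizer (ψ.range : Set G)) t :=
  ⟨h.t2, h.tN, fun _ => h.native⟩

theorem t_not_sup : t ∉ ψ.range ⊔ centralizer (ψ.range : Set G) := fun e => by
  obtain ⟨γ, h1, h2⟩ := h.mod'.mem_sup_iff.1 e
  exact h.ds.ne (σ_Om (h.mod'.ac_uniq h2 h.ac ▸ h1))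

theorem not_mem (hG : SLE.Glob Gs t) : t ∉ Gs := by
  obtain ⟨B, _, _, ty, -, hty⟩ := h.mod'.typ2
  refine hG.not_mem (UFP.not_mem_commutator h.t2 h.tN ty (fun e => ?_) fun x hx _ => h.native hx)
  obtain ⟨_, ⟨m, rfl⟩, h1⟩ := (hty _).1 e
  rw [pow_succ, pow_mul, pow_two, h.t2, one_pow, one_mul] at h1
  exact h.t_not_sup h1

end DblF

end CfsgLib.SLD
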