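import Cfsg.Agent.Lib.SLD.Fus2
import Cfsg.Agent.Lib.SLD.Q2a
import Cfsg.Agent.Lib.SLD.Q2c
import Cfsg.Agent.Lib.HX.Mov
import Cfsg.Agent.Lib.HX.Hat

/-! The hats of the root elements -/

set_option autoImplicit false
set_option linter.unusedSectionVars false

namespace CfsgLib.SLD

open Subgroup QuadraticMap CfsgLib.OrthE Module
open scoped commutatorElement Pointwise

universe u

variable {F V : Type} [Field F] [Finite F] [AddCommGroup V] [Module F V] [Finite V] {Q : QuadraticForm F V}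
  {k : ℕ} {G : Type u} [Group G] [Finite G] {φ : Om Q →* G} {t : G}

namespace Sit

variable (h : Sit Q k φ t)
include h

theorem hats {Gs : Subgroup G} (hG : SLE.Glob Gs t) (hL : φ.range ≤ Gs) {e f : ℕ → V} (fr : Fr Q (k - 1) e f) :
    ∃ y c, HX.Hats φ.range t (aa φ e f) y c := by
  have k4 := h.four
  have f3 : Fr Q 3 e f := fr.mono (by omega)
  have r : RP Q (e 0) (e 1) := f3.rp (by omega) (by omega) (by omega)
  have r' : RP Q (e 0) (e 2) := f3.rp (by omega) (by omega) (by omega)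
  obtain ⟨g, hg, nY, nQ, nZ, a, a0, ha⟩ := h.trans r (h.fus hG hL ⟨_, _, r, rfl⟩)
  have hl := h.lr fr
  have D := h.a2d fr
  obtain ⟨p, p1, s, hs, p2⟩ : ∃ p ∈ centralizer (im φ (Yf Q (e 0) (e 1)) : Set G), ∃ s, s ≠ 0 ∧
      p * t * p⁻¹ = t * zz φ (e 0) (e 1) s := by
    rcases q_cases (F := F) with hq | hq
    · obtain rfl := (zero_or_one hq a).resolve_left a0
      obtain ⟨n, n1, n2, n3, n4⟩ := h.triv_two hq fr hg nY nQ ha
      obtain ⟨p, p1, p2⟩ := hl.exists_cent n1 n2 n3 n4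
      rw [h.toOS.Yp_two hq r] at p1
      rw [zz, one_smul] at p2
      obtain ⟨g, d⟩ := h.ii_exists hq r p1 p2
      exact ⟨g, h.ii_cent hq (h.two_of' r p1 p2) r d, 1, one_ne_zero, by rw [zz, one_smul]; exact d.mv⟩
    · obtain ⟨n, n1, n2, n3, s, hs, n4⟩ := hl.exists_triv hq hg nY nQ nZ
      obtain ⟨p, p1, p2⟩ := hl.exists_cent n1 n2 n3 n4
      rw [h.toOS.Yp_big hq r] at p1
      exact ⟨p, p1, s, hs, p2⟩
  rw [← h.toMod.Yk_one f3] at p1
  have h2 := D.two_of p1 hs p2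
  have hp := D.exists_mv p1 hs p2
  obtain ⟨W, hW⟩ := D.exists_hw h2 hp fun hq p₁ p₂ m₁ m₂ s₁ s₂ => by
    refine h.ii_comm hq h2 r r'.qv r'.uv (f3.ee 1 (by omega) 2 (by omega))
      (Tn_two (F := F) e ▸ f3.e_not_mem (i := 2) (by omega) le_rfl) ⟨s₁, ?_, ?_, m₁.co⟩ ⟨s₂, ?_, ?_, m₂.co⟩
    · exact centralizer_le (im_mono h.Fx_le_Yf) (h.toMod.Yk_one f3 ▸ m₁.cY)
    · exact m₁.pt.trans (congrArg (t * xx φ (e 0) ·) (one_smul F _))
    · exact centralizer_le (im_mono h.Fx_le_Yf) (h.toMod.Yk_two f3 ▸ m₂.cY)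
    · exact m₂.pt.trans (congrArg (t * xx φ (e 0) ·) (one_smul F _))
  exact D.hats h2 (D.exists_invol h2 hp) hW

theorem hr {e f : ℕ → V} (fr : Fr Q (k - 1) e f) {y : ZMod 6 → F → G} {c : F}
    (hy : HX.Hats φ.range t (aa φ e f) y c) : ∃ η, HR Q k φ t η c := by
  classical
  have k4 := h.four
  have f3 : Fr Q 3 e f := fr.mono (by omega)
  have r : RP Q (e 0) (e 1) := f3.rp (by omega) (by omega) (by omega)
  have D := h.a2d fr
  have a1 : aa φ e f 1 1 = xx φ (e 0) (e 1) := congrArg (xx φ (e 0)) (one_smul F _)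
  have y0 : ∀ i, y i 0 = 1 := fun i => by
    have := hy.add i 0 0
    rw [add_zero] at this
    exact left_eq_mul.1 this
  obtain ⟨η, η1, key⟩ : ∃ η : G → G, η 1 = 1 ∧
      ∀ l ∈ φ.range, η (l * aa φ e f 1 1 * l⁻¹) = l * y 1 1 * l⁻¹ := by
    refine ⟨fun x => if hx : ∃ l ∈ φ.range, l * aa φ e f 1 1 * l⁻¹ = x then
      hx.choose * y 1 1 * hx.choose⁻¹ else 1, dif_neg ?_, fun l hl => ?_⟩
    · rintro ⟨l, -, hl⟩
      exact D.a1_ne one_ne_zero (conj_eq_one_iff.1 hl)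
    · have hx : ∃ l' ∈ φ.range, l' * aa φ e f 1 1 * l'⁻¹ = l * aa φ e f 1 1 * l⁻¹ := ⟨l, hl, rfl⟩
      obtain ⟨h1, h2⟩ := hx.choose_spec
      beta_reduce
      rw [dif_pos hx]
      generalize hx.choose = m at h1 h2
      have := hy.eqv _ (mul_mem (inv_mem hl) h1) 1 1 1 1 (by
        calc _ = l⁻¹ * (m * aa φ e f 1 1 * m⁻¹) * l := by group
          _ = _ := by rw [h2]; group)
      conv_rhs => rw [← this]
      group
  have rt : ∀ {x}, Rt φ x → ∃ l ∈ φ.range, l * aa φ e f 1 1 * l⁻¹ = x := fun hx =>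
    h.toMod.rt_trans (h.toMod.rt_aa f3 1 one_ne_zero) hx
  have key2 : ∀ l ∈ φ.range, ∀ i s, η (l * aa φ e f i s * l⁻¹) = l * y i s * l⁻¹ := fun l hl i s => by
    by_cases hs : s = 0
    · simp [hs, D.a_zero, y0, η1]
    obtain ⟨m, hm, e1⟩ := rt (h.toMod.rt_aa f3 i hs)
    rw [← hy.eqv m hm 1 i 1 s e1, ← e1, show l * (m * aa φ e f 1 1 * m⁻¹) * l⁻¹ =
      l * m * aa φ e f 1 1 * (l * m)⁻¹ by group, key _ (mul_mem hl hm)]
    group
  have cx : ∀ {γ}, γ ∈ Om Q → ∀ u v (s : F), xx φ (γ • u) (s • γ • v) = ph φ γ * xx φ u (s • v) * (ph φ γ)⁻¹ :=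
    fun hγ u v s => by rw [conj_xx hγ, lin_smul (σ_Om hγ)]
  have k0 : ∀ {γ}, γ ∈ Om Q → ∀ s, η (xx φ (γ • e 1) (s • γ • f 2)) = ph φ γ * y 0 s * (ph φ γ)⁻¹ :=
    fun hγ s => by rw [cx hγ]; exact key2 _ (ph_mem _) 0 s
  have k1 : ∀ {γ}, γ ∈ Om Q → ∀ s, η (xx φ (γ • e 0) (s • γ • e 1)) = ph φ γ * y 1 s * (ph φ γ)⁻¹ :=
    fun hγ s => by rw [cx hγ]; exact key2 _ (ph_mem _) 1 s
  have k2 : ∀ {γ}, γ ∈ Om Q → ∀ s, η (xx φ (γ • e 0) (s • γ • e 2)) = ph φ γ * y 2 s * (ph φ γ)⁻¹ :=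
    fun hγ s => by rw [cx hγ]; exact key2 _ (ph_mem _) 2 s
  refine ⟨η, h, hy.two, η1, fun x hx => ?_, fun l hl x hx => ?_, fun x hx => ?_, fun x hx => ?_,
    fun u v g ruv g2 gc gt => ?_, fun u v w hu hv hw huv huw hvw => ?_, fun e' f' fr' s x => ?_⟩
  · obtain ⟨m, hm, rfl⟩ := rt hx
    rw [key m hm, show m * y 1 1 * m⁻¹ * (m * y 1 1 * m⁻¹) = m * (y 1 1 * y 1 1) * m⁻¹ by group, ← hy.add,
      h.addF, y0, mul_one, mul_inv_cancel]
  · obtain ⟨m, hm, rfl⟩ := rt hx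
    rw [key m hm, show l * (m * aa φ e f 1 1 * m⁻¹) * l⁻¹ = l * m * aa φ e f 1 1 * (l * m)⁻¹ by group,
      key _ (mul_mem hl hm)]
    group
  · obtain ⟨m, hm, rfl⟩ := rt hx
    rw [key m hm]
    exact h.conj_mv hm (hy.mv 1 1).pt
  · obtain ⟨m, hm, rfl⟩ := rt hx
    rw [key m hm]
    intro o ho ot od
    have c1 : Commute m o := mem_centralizer_iff.1 ho m hm
    exact ((c1.mul_left ((hy.mv 1 1).co o ho ot od)).mul_left c1.inv_left).eq
  · obtain ⟨γ, hγ, rfl, rfl⟩ := h.rp_conj r ruv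
    have hl := ph_mem (φ := φ) γ
    have e1 := conj_xx (φ := φ) hγ (e 0) (e 1)
    have e2 := k1 hγ 1
    rw [one_smul] at e2
    simp only [e2, cx hγ]
    generalize ph φ γ = l at *
    rcases hy.chr 1 (l⁻¹ * g * l) (by
        calc _ = l⁻¹ * (g * g) * l := by group
          _ = 1 := by rw [g2]; group) (by
        rw [h.toMod.Yk_one f3, h.toMod.im_Yf r]
        refine mem_centralizer_iff.2 fun x hx => ?_
        have := mem_centralizer_iff.1 gc (l * x * l⁻¹) (mem_inf.2 ⟨mul_mem (mul_mem hl hx.1) (inv_mem hl),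
          mem_centralizer_singleton_iff.2 (by
            rw [← e1]
            calc _ = l * (x * xx φ (e 0) (e 1)) * l⁻¹ := by group
              _ = _ := by rw [mem_centralizer_singleton_iff.1 hx.2]; group)⟩)
        calc _ = l⁻¹ * (l * x * l⁻¹ * g) * l := by group
          _ = _ := by rw [this]; group) 1 (by
        have := h.conj_mv (inv_mem hl) gt
        rw [← e1, inv_inv] at this
        rw [mul_inv_rev, mul_inv_rev, inv_inv, ← mul_assoc, ← mul_assoc, a1]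
        rw [mul_inv_rev, mul_inv_rev, inv_inv, ← mul_assoc, ← mul_assoc] at this
        rw [this]; group) with ⟨s, hs⟩ | ⟨s, hs⟩
    · refine ⟨s, ?_⟩
      calc g = l * (l⁻¹ * g * l) * l⁻¹ := by group
        _ = l * (y 1 1 * xx φ (e 0) (s • e 1)) * l⁻¹ := by rw [hs]; rfl
        _ = _ := by group
    · have c1 : Commute (l * (t * aa φ e f 1 s) * l⁻¹) t :=
        ((h.com hl).mul_left ((Commute.refl t).mul_left (h.com (D.mem 1 s)))).mul_left (h.com hl).inv_left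
      rw [← hs, show l * (l⁻¹ * g * l) * l⁻¹ = g by group] at c1
      rw [c1.eq, mul_inv_cancel_right, left_eq_mul] at gt
      exact (h.toMod.xx_ne ruv gt).elim
  · by_cases u0 : u = 0
    · simp only [u0, xx, ρ_zero_left, ph_one, η1, mul_one]
    by_cases v0 : ∃ a : F, v = a • u
    · obtain ⟨a, rfl⟩ := v0
      rw [← xx_mul hu huv huw, xx_self, η1, one_mul, one_mul]
    have ruv : RP Q u v := ⟨hu, hv, huv, u0, fun a e => v0 ⟨a, e⟩⟩
    by_cases w0 : w ∈ ln F u v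
    · obtain ⟨a, b, rfl⟩ := mem_ln.1 w0
      obtain ⟨γ, hγ, rfl, rfl⟩ := h.rp_conj r ruv
      have e1 : xx φ (γ • e 0) (a • γ • e 0 + b • γ • e 1) = xx φ (γ • e 0) (b • γ • e 1) := by
        rw [xx, add_comm, ρ_add_self a hu (by rw [polar_smul_right, huv, smul_zero]), xx]
      have e2 := k1 hγ 1
      rw [one_smul] at e2
      rw [← xx_mul hu huv huw, e1, xx_mul hu huv (by rw [polar_smul_right, huv, smul_zero]), e2,
        show γ • e 1 + b • γ • e 1 = (1 + b) • γ • e 1 by rw [add_smul, one_smul], k1 hγ, k1 hγ, hy.add]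
      group
    · obtain ⟨e', f', fr', rfl, rfl, rfl⟩ := h.fr_three ruv hw huw hvw w0
      obtain ⟨γ, hγ, h1⟩ := h.fr_conj (show 3 < k by omega) f3 (fr'.mono (by omega))
      have e1 := k1 hγ 1
      have e2 := k2 hγ 1
      have e3 := cx hγ (e 0) (e 1) 1
      have e4 := cx hγ (e 0) (e 2) 1
      have e5 := D.c0 1 0 1
      have e6 := key2 _ (mul_mem (ph_mem γ) (D.mem 0 1)) 2 1
      have e7 := hy.ay2 0 1 1
      have e8 := (hy.yy1 1 1 1).eq
      rw [one_smul, (h1 0 (by omega)).1, (h1 1 (by omega)).1] at e1 e3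
      rw [one_smul, (h1 0 (by omega)).1, (h1 2 (by omega)).1] at e2 e4
      rw [D.a_zero, one_mul, zero_add, one_mul] at e5
      rw [zero_add, zero_add, mul_one] at e7
      rw [one_add_one_eq_two] at e8
      rw [← xx_mul hu huv huw, e1, e2, e3, e4]
      generalize ph φ γ = l at *
      calc _ = η (l * (aa φ e f 1 1 * aa φ e f 2 1) * l⁻¹) := by
            congr 1
            show _ = l * (xx φ (e 0) ((1 : F) • e 1) * xx φ (e 0) ((1 : F) • e 2)) * l⁻¹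
            group
        _ = l * (aa φ e f 0 1 * y 2 1 * (aa φ e f 0 1)⁻¹) * l⁻¹ := by
            rw [← e5, show l * (aa φ e f 0 1 * aa φ e f 2 1 * (aa φ e f 0 1)⁻¹) * l⁻¹ =
              l * aa φ e f 0 1 * aa φ e f 2 1 * (l * aa φ e f 0 1)⁻¹ by group, e6]
            group
        _ = _ := by rw [D.inv, e7, ← e8]; group
  · obtain ⟨γ, hγ, h1⟩ := h.fr_conj (show 3 < k by omega) f3 fr'
    have e1 := hy.yy2 0 s x
    rw [zero_add, zero_add] at e1
    rw [← (h1 0 (by omega)).1, ← (h1 1 (by omega)).1, ← (h1 2 (by omega)).1, ← (h1 2 (by omega)).2, k0 hγ, k1 hγ,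
      k2 hγ, cx hγ]
    calc _ = ph φ γ * (y 2 x * y 0 s * y 2 x) * (ph φ γ)⁻¹ := by group
      _ = ph φ γ * (y 0 s * y 1 (s * x) * xx φ (e 0) ((c * (s * x)) • e 1)) * (ph φ γ)⁻¹ := by rw [e1]; rfl
      _ = _ := by group

end Sit

end CfsgLib.SLD
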