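import Cfsg.Agent.Lib.SLD.Mdl

/-! Models: local subgroups -/

set_option autoImplicit false
set_option linter.unusedSectionVars false

namespace CfsgLib.SLD

open Subgroup QuadraticMap CfsgLib.OrthE Module
open scoped commutatorElement Pointwise

universe u

variable {F V : Type} [Field F] [Finite F] [AddCommGroup V] [Module F V] [Finite V] {Q : QuadraticForm F V}
  {k : ℕ} {G : Type u} [Group G] [Finite G] {φ : Om Q →* G} {t : G}

namespace Mod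

variable (h : Mod Q k φ)
include h

variable {g : G} {γ : SI Q} {u v : V} {e f : ℕ → V}

theorem im_Yf (r : RP Q u v) : im φ (Yf Q u v) = φ.range ⊓ centralizer {xx φ u v} := by
  rw [h.Yf_eq r]
  refine le_antisymm (im_le.2 fun γ hγ k1 => ⟨ph_mem γ, mem_centralizer_singleton_iff.2
    (ph_comm k1 (ρ_mem Q u v) (mem_centralizer_singleton_iff.1 hγ.2))⟩) fun x hx => ?_
  obtain ⟨γ, hγ, rfl⟩ := mem_L.1 hx.1
  exact ph_mem_im ⟨hγ, mem_centralizer_singleton_iff.2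
    (comm_of_ph h.inj hγ (ρ_mem Q u v) (mem_centralizer_singleton_iff.1 hx.2))⟩

omit h in
theorem im_Yp : im φ (Yp Q u v) = ⁅⁅im φ (Yf Q u v), im φ (Yf Q u v)⁆, ⁅im φ (Yf Q u v), im φ (Yf Q u v)⁆⁆ := by
  rw [Yp, im_comm (comm_le_self (Yf_le u v)) (comm_le_self (Yf_le u v)), im_comm (Yf_le u v) (Yf_le u v)]

theorem Yp_perf' (r : RP Q u v) : im φ (Yp Q u v) ≤ ⁅im φ (Yp Q u v), im φ (Yp Q u v)⁆ := by
  rw [← im_comm ((Yp_le u v).trans (Yf_le u v)) ((Yp_le u v).trans (Yf_le u v))]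
  exact im_mono (h.Yp_perf r)

theorem le_Yp' {K : Subgroup G} (r : RP Q u v) (h1 : K ≤ φ.range ⊓ centralizer {xx φ u v}) (h2 : K ≤ ⁅K, K⁆) :
    K ≤ im φ (Yp Q u v) := by
  rw [← h.im_Yf r] at h1
  have := h2.trans (commutator_mono h1 h1)
  rw [im_Yp]
  exact h2.trans (commutator_mono this this)

theorem im_Z (r : RP Q u v) : im φ (Z Q u v) =
    im φ (NT Q (ln F u v)) ⊓ centralizer (im φ (NT Q (ln F u v)) : Set G) := by
  refine le_antisymm (le_inf (im_mono (h.Z_le_NT r)) (im_le.2 fun γ hγ k1 =>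
    ((ac_ph k1).cent_iff h.inj (h.NT_le_Om r.ts)).2 fun n hn =>
      (h.DT_cen r.ts (h.DT_ln r ▸ hγ) hn.1 hn.2.1).symm)) fun x hx => ?_
  obtain ⟨γ, -, k1, rfl⟩ := mem_im.1 hx.1
  exact ph_mem_im (h.cQ r (((ac_ph k1).cent_iff h.inj (h.NT_le_Om r.ts)).1 hx.2))

theorem norm_of_Y (r : RP Q u v) (hg : g ∈ normalizer (im φ (Yp Q u v) : Set G)) :
    g ∈ normalizer (im φ (NT Q (ln F u v)) : Set G) ∧ g ∈ normalizer (im φ (Z Q u v) : Set G) := by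
  have k1 : im φ (NT Q (ln F u v)) ≤ im φ (Yp Q u v) := im_mono ((h.NT_le_Fx r).trans (h.Fx_le_Yp r))
  have k2 : im φ (Yp Q u v) ≤ normalizer (im φ (NT Q (ln F u v)) : Set G) := im_le.2 fun γ hγ k =>
    (ac_ph k).norm_im (NT_conj (h.stab_ln r (by simpa using (mem_Yf.1 (Yp_le u v hγ)).2 1)))
  have k3 := h.O2 r (P := pre φ ((im φ (NT Q (ln F u v))).comap (MulAut.conj g⁻¹).toMonoidHom))
    (pg_pre h.inj ((pg_im (h.NT_two r.ts)).comap_of_injective _ (MulAut.conj g⁻¹).injective))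
    (fun γ hγ => (ph_mem_iff h.inj (mem_pre.1 hγ).1).1
      ((mem_normalizer_iff.1 (inv_mem hg) _).2 (k1 (mem_pre.1 hγ).2))) fun y hy p hp => by
      have y0 := Yf_le u v (Yp_le u v hy)
      refine mem_pre.2 ⟨Om_normal.conj_mem p (mem_pre.1 hp).1 y, ?_⟩
      have := (mem_normalizer_iff.1 (k2 ((mem_normalizer_iff.1 (inv_mem hg) _).1 (ph_mem_im hy))) _).1
        (mem_pre.1 hp).2
      rw [← ph_conj y0 (mem_pre.1 hp).1]
      simpa [mul_assoc] using this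
  have k4 : g ∈ normalizer (im φ (NT Q (ln F u v)) : Set G) := Tech.mem_normalizer_of_forall fun x hx => by
    obtain ⟨γ, -, k5, e⟩ := mem_im.1 ((mem_normalizer_iff.1 hg x).1 (k1 hx))
    rw [e]
    exact ph_mem_im (k3 (mem_pre.2 ⟨k5, by rw [← e]; simpa [mul_assoc] using hx⟩))
  refine ⟨k4, Tech.mem_normalizer_of_forall fun x hx => ?_⟩
  rw [h.im_Z r] at hx ⊢
  exact ⟨(mem_normalizer_iff.1 k4 x).1 hx.1,
    (mem_normalizer_iff.1 (Core.normalizer_le_normalizer_centralizer _ k4) x).1 hx.2⟩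

theorem nYp (r : RP Q u v) (hg : g ∈ normalizer (φ.range : Set G)) (hc : Commute g (xx φ u v)) :
    g ∈ normalizer (im φ (Yp Q u v) : Set G) := by
  have k1 : g ∈ normalizer (im φ (Yf Q u v) : Set G) := Tech.mem_normalizer_of_forall fun x hx => by
    rw [h.im_Yf r] at hx ⊢
    exact ⟨(mem_normalizer_iff.1 hg x).1 hx.1, mem_centralizer_singleton_iff.2
      ((hc.mul_left (mem_centralizer_singleton_iff.1 hx.2)).mul_left hc.inv_left)⟩
  rw [Tech.mem_normalizer_iff_cj] at k1 ⊢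
  rw [im_Yp, Tech.cj_commutator, Tech.cj_commutator, k1]

theorem nQ (r : RP Q u v) (hg : g ∈ normalizer (φ.range : Set G)) (hc : Commute g (xx φ u v)) :
    g ∈ normalizer (im φ (NT Q (ln F u v)) : Set G) := by
  exact (h.norm_of_Y r (h.nYp r hg hc)).1

theorem nZ (r : RP Q u v) (hg : g ∈ normalizer (φ.range : Set G)) (hc : Commute g (xx φ u v)) :
    g ∈ normalizer (im φ (Z Q u v) : Set G) := by
  exact (h.norm_of_Y r (h.nYp r hg hc)).2

theorem cN' {T : Submodule F V} (hT : TS Q T) (h1 : 2 ≤ finrank F T) (h2 : finrank F T < k) (hg : g ∈ normalizer (φ.range : Set G))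
    (hc : g ∈ centralizer (im φ (NT Q T) : Set G)) : ∃ d ∈ DT Q T, ∃ c ∈ centralizer (φ.range : Set G), g = ph φ d * c := by
  obtain ⟨w, hw, hq⟩ := h.cen_ns h2
  obtain ⟨u, hu, u0⟩ := T.exists_mem_ne_zero_of_ne_bot (by rintro rfl; simp at h1)
  obtain ⟨γ, k1⟩ := h.ac_of_ns hg (hT u hu) u0 ((polar_comm _ _ _).trans (hw u hu)) hq
    (Commute.symm (hc _ (ph_mem_im (ρ_mem_NT hT hu hw))))
  have k2 := h.cN hT h1 h2 ((k1.cent_iff h.inj (h.NT_le_Om hT)).1 hc)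
  exact ⟨γ, k2, k1.split (h.NT_le_Om hT (h.DT_le_NT hT k2))⟩

theorem cQ' (r : RP Q u v) (hg : g ∈ normalizer (φ.range : Set G)) (hc : g ∈ centralizer (im φ (NT Q (ln F u v)) : Set G)) :
    ∃ s, ∃ c ∈ centralizer (φ.range : Set G), g = zz φ u v s * c := by
  have := h.four
  have := h.cen_ln r
  obtain ⟨d, hd, k1⟩ := h.cN' r.ts (by omega) (by omega) hg hc
  obtain ⟨s, rfl⟩ := (mem_Z r.qu r.uv).1 (h.DT_ln r ▸ hd)
  exact ⟨s, k1⟩

theorem ac_of_A (hu : Q u = 0) (u0 : u ≠ 0) (hg : g ∈ normalizer (φ.range : Set G))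
    (hc : g ∈ centralizer (im φ (A Q u) : Set G)) : ∃ γ, Ac φ g γ := by
  obtain ⟨f, hh⟩ := h.nd.exists_hyp hu u0
  obtain ⟨w, k1, -, k2⟩ := hh.exists_nonsingular h.nd h.three
  exact h.ac_of_ns hg hu u0 ((polar_comm _ _ _).trans k1) k2 (Commute.symm (hc _ (ph_mem_im (ρ_mem_A u w))))

theorem cA' (hu : Q u = 0) (u0 : u ≠ 0) (hg : g ∈ normalizer (φ.range : Set G)) (hc : g ∈ centralizer (im φ (A Q u) : Set G)) :
    ∃ w, polar Q u w = 0 ∧ ∃ c ∈ centralizer (φ.range : Set G), g = xx φ u w * c := by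
  obtain ⟨γ, k1⟩ := h.ac_of_A hu u0 hg hc
  obtain ⟨w, hw, rfl⟩ := (mem_A hu).1
    (h.cA hu u0 fun v => (k1.cent_iff h.inj (A_le_Om u)).1 hc _ (ρ_mem_A u v))
  exact ⟨w, hw, k1.split (ρ_mem Q u w)⟩

theorem cV' (r : RP Q u v) (hg : g ∈ normalizer (φ.range : Set G))
    (hc : ∀ x ∈ im φ (NT Q (ln F u v)), g * x * g⁻¹ * x⁻¹ ∈ im φ (Z Q u v)) :
    ∃ x ∈ im φ (NT Q (ln F u v)), ∃ c ∈ centralizer (φ.range : Set G), g = x * c := by
  have := h.four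
  have := h.cen_ln r
  obtain ⟨w, hw, hq⟩ := h.cen_ns (T := ln F u v) (by omega)
  have hw' := (polar_comm _ _ _).trans (hw u (left_mem_ln u v))
  obtain ⟨z, hz, -, e⟩ := mem_im.1 (hc _ (ph_mem_im (ρ_mem_NT r.ts (left_mem_ln u v) hw)))
  obtain ⟨s, rfl⟩ := (mem_Z r.qu r.uv).1 hz
  obtain ⟨γ, k1⟩ := h.ac_of_ns' hg r.qu r.u0 hw' hq
    ((eq_mul_of_mul_inv_eq e).trans (xx_mul r.qu (by simp [r.uv]) hw'))
  have k2 := h.cV r (γ := γ) fun n hn => by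
    have n0 := h.NT_le_Om r.ts hn
    have n1 := Om_normal.conj_mem n n0 γ
    rw [← ph_mem_iff h.inj (mul_mem n1 (inv_mem n0)), ph_mul n1 (inv_mem n0), ph_inv n0, ← k1 n n0]
    exact hc _ (ph_mem_im hn)
  exact ⟨_, ph_mem_im k2, k1.split (h.NT_le_Om r.ts k2)⟩

theorem cR' (fr : Fr Q 3 e f) (hg : g ∈ normalizer (φ.range : Set G)) (hc : g ∈ centralizer (im φ (RR Q e) : Set G)) :
    ∃ x ∈ im φ (EE Q e), ∃ c ∈ centralizer (φ.range : Set G), g = x * c := by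
  obtain ⟨γ, k1⟩ := h.ac_of_A (fr.qe 0 (by omega)) (fr.hyp (i := 0) (by omega)).e_ne hg
    (centralizer_le (im_mono le_sup_left) hc)
  have k2 := h.cR fr ((k1.cent_iff h.inj (sup_le (A_le_Om _) (h.NT_le_Om (fr.ts le_rfl)))).1 hc)
  exact ⟨_, ph_mem_im k2, k1.split (sup_le ((Z_le_A _ _).trans (A_le_Om _)) ((Z_le_A _ _).trans (A_le_Om _)) k2)⟩

theorem af_zz (fr : Fr Q (k - 1) e f) (h1 : Ac φ g γ) (h2 : Flg e (k - 1) γ) (s : F) :
    g * zz φ (e 0) (e 1) s * g⁻¹ = zz φ (e 0) (e 1) (γ.σ s) := by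
  exact (h1 _ (ρ_mem Q _ _)).trans (congrArg (ph φ) (h.flg_comm fr h2 s))

theorem af_comm (fr : Fr Q (k - 1) e f) (h1 : AF φ e (k - 1) g) : Commute g (xx φ (e 0) (e 1)) := by
  obtain ⟨γ, h1, h2⟩ := h1
  have := h.af_zz fr h1 h2 1
  rwa [map_one, zz, one_smul, mul_inv_eq_iff_eq_mul] at this

theorem af_norm (fr : Fr Q (k - 1) e f) (h1 : AF φ e (k - 1) g) :
    g ∈ normalizer (im φ (UF Q e (k - 1)) : Set G) ∧ g ∈ normalizer (im φ (EE Q e) : Set G) := by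
  obtain ⟨γ, h1, h2⟩ := h1
  have := h.four
  have fr' := fr.mono (show 3 ≤ k - 1 by omega)
  refine ⟨h1.norm_im (h.UF_conj fr h2.mem), h1.norm_im fun a ha => ?_⟩
  obtain ⟨w, hw, rfl⟩ := (h.cen_EE fr').1 ha
  exact (h.cen_EE fr').2 ⟨_, smul_mem_Tn h2.mem (by omega) hw, by rw [conj_ρ, h.cen_e0 h2 (by omega)]⟩

theorem af_mem (fr : Fr Q (k - 1) e f) (h1 : AF φ e (k - 1) g) (h2 : g ∈ φ.range) (h3 : IsPGroup 2 (zpowers g)) :
    g ∈ im φ (UF Q e (k - 1)) := by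
  obtain ⟨γ, h1, h4⟩ := h1
  obtain ⟨δ, hδ, rfl⟩ := mem_L.1 h2
  obtain rfl := h.ac_uniq h1 (ac_ph hδ)
  exact ph_mem_im (h.flag_Om fr hδ (h.ac_two h1 h3) h4)

theorem af_split (fr : Fr Q (k - 1) e f) (h1 : AF φ e (k - 1) g) (h2 : g ∈ φ.range ⊔ centralizer (φ.range : Set G))
    (h3 : IsPGroup 2 (zpowers g)) : ∃ x ∈ im φ (UF Q e (k - 1)), ∃ c ∈ centralizer (φ.range : Set G), g = x * c := by
  obtain ⟨γ, h1, h4⟩ := h1
  obtain ⟨δ, hδ, k1⟩ := h.mem_sup_iff.1 h2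
  obtain rfl := h.ac_uniq h1 k1
  exact ⟨_, ph_mem_im (h.flag_Om fr hδ (h.ac_two h1 h3) h4), h1.split hδ⟩

theorem U_two (fr : Fr Q (k - 1) e f) : IsPGroup 2 (im φ (UF Q e (k - 1))) := by
  exact pg_im (h.UF_two fr)

theorem card_U (fr : Fr Q (k - 1) e f) : Nat.card (im φ (UF Q e (k - 1))) = Nat.card F ^ (k * (k - 1)) := by
  rw [card_im h.inj (UF_le_Om _ _), h.card_UF fr]

theorem two_le {P : Subgroup G} (hP : IsPGroup 2 P) (h1 : P ≤ φ.range) :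
    ∃ e f, Fr Q (k - 1) e f ∧ P ≤ im φ (UF Q e (k - 1)) := by
  obtain ⟨e, f, fr, k1⟩ := h.two_le_UF (pg_pre h.inj hP) fun _ k => (mem_pre.1 k).1
  exact ⟨e, f, fr, im_pre h1 ▸ im_mono k1⟩

theorem two_eq {P : Subgroup G} (hP : IsPGroup 2 P) (h1 : P ≤ φ.range) (h2 : Nat.card F ^ (k * (k - 1)) ≤ Nat.card P) :
    ∃ e f, Fr Q (k - 1) e f ∧ P = im φ (UF Q e (k - 1)) := by
  obtain ⟨e, f, fr, k1⟩ := h.two_le hP h1
  exact ⟨e, f, fr, Core.eq_of_le_of_card_le k1 (by rwa [h.card_U fr])⟩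

theorem U_max (fr : Fr Q (k - 1) e f) {P : Subgroup G} (hP : IsPGroup 2 P) (h1 : P ≤ φ.range)
    (h2 : im φ (UF Q e (k - 1)) ≤ P) : P = im φ (UF Q e (k - 1)) := by
  rw [← h.UF_max fr (pg_pre h.inj hP) (fun _ k => (mem_pre.1 k).1)
    fun γ hγ => mem_pre.2 ⟨UF_le_Om _ _ hγ, h2 (ph_mem_im hγ)⟩, im_pre h1]

theorem U_inf_cent (fr : Fr Q (k - 1) e f) :
    im φ (UF Q e (k - 1)) ⊓ centralizer (im φ (UF Q e (k - 1)) : Set G) = im φ (Z Q (e 0) (e 1)) := by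
  have := h.four
  have r := fr.rp (i := 0) (j := 1) (by omega) (by omega) (by omega)
  refine le_antisymm (fun x hx => ?_) (le_inf (im_mono ((h.Z_le_NT r).trans (h.NT_le_UF' fr)))
    (im_le.2 fun γ hγ k1 => ((ac_ph k1).cent_iff h.inj (UF_le_Om _ _)).2 fun n hn =>
      Commute.symm ((h.UF_le_Yf fr hn).2 γ hγ)))
  obtain ⟨γ, -, k1, rfl⟩ := mem_im.1 hx.1
  exact ph_mem_im (h.ZU fr (((ac_ph k1).cent_iff h.inj (UF_le_Om _ _)).1 hx.2))

end Mod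

namespace Sit

variable (h : Sit Q k φ t)
include h

theorem t_not_mem : t ∉ φ.range := by
  exact fun k1 => h.t1 (h.eq_one' k1 h.tC)

theorem of_range {φ' : Om Q →* G} (h' : Mod Q k φ') (e : φ'.range = φ.range) : Sit Q k φ' t := by
  exact ⟨h', e ▸ h.toStd⟩

theorem pf_le {K : Subgroup G} (h1 : K ≤ centralizer {t}) (h2 : K ≤ ⁅K, K⁆) : K ≤ φ.range := by
  exact h.le_of_perf h.cyc (h1.trans h.CN) h2

theorem eq_t {w c : G} (hw : w ∈ φ.range) (hc : c ∈ centralizer (φ.range : Set G)) (w2 : w * w = 1) (e2 : w * c * (w * c) = 1)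
    (et : Commute (w * c) t) : c = 1 ∨ c = t := by
  have k1 : Commute w c := hc w hw
  rw [k1.symm.mul_mul_mul_comm, w2, one_mul] at e2
  exact h.toStd.invol hc (by simpa using ((h.com hw).inv_left.mul_left et).eq) e2

end Sit

end CfsgLib.SLD
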