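import Cfsg.Agent.Lib.SLD.Hat1
import Cfsg.Agent.Lib.SLD.Hat3
import Cfsg.Agent.Lib.SLD.Dblf
import Cfsg.Agent.Lib.SLD.Dblp
import Cfsg.Agent.Lib.SLD.Fld2
import Cfsg.Agent.Lib.SLD.Prd

/-! The main theorem -/

set_option autoImplicit false

namespace CfsgLib.SLD

open Subgroup QuadraticMap CfsgLib.OrthE

universe u

variable {F V : Type} [Field F] [Finite F] [AddCommGroup V] [Module F V] [Finite V] {Q : QuadraticForm F V}
  {k : ℕ} {G : Type u} [Group G] [Finite G] {φ : Om Q →* G} {t : G}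

theorem Sit.main (h : Sit Q k φ t) {Gs : Subgroup G} (hG : SLE.Glob Gs t) (hL : φ.range ≤ Gs) :
    ∃ (K : Type) (_ : Field K) (_ : Finite K), Nat.card K = Nat.card F ^ 2 ∧
      Nonempty (Gs ≃* Cfsg.POmega K (Cfsg.quadFormPlus k K)) := by
  obtain ⟨e, f, fr⟩ := h.exists_fr
  obtain ⟨y, c, hy⟩ := h.hats hG hL fr
  obtain ⟨η, hη⟩ := h.hr fr hy
  obtain ⟨y, hy⟩ := hη.hv
  by_cases hc : ∃ r : F, r * r + r = c
  · obtain ⟨r, hr⟩ := hc
    obtain ⟨_, _, d⟩ := hy.prod hr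
    exact (d.false hG hL).elim
  · obtain ⟨K, V', _, _, _, _, _, Q', ψ, j, ι, τ, d⟩ := hy.field (not_exists.1 hc)
    obtain ⟨e', f', fr'⟩ := d.plus
    obtain ⟨a⟩ := d.mod'.equiv_of_fr fr'
    exact ⟨K, _, ‹_›, d.ds.card, ⟨(MulEquiv.subgroupCongr (d.eq hG hL).symm).trans
      ((MonoidHom.ofInjective d.mod'.inj).symm.trans a)⟩⟩

end CfsgLib.SLD
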